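import Groth.Agent.QCoh.Ab.Leray
import Mathlib.Algebra.Homology.ShortComplex.Ab

/-! Čech cohomology in degree one injects into cohomology, for any covering. -/

set_option autoImplicit false

universe u

open CategoryTheory CategoryTheory.Limits TopologicalSpace Opposite

namespace Groth.Agent.CechH1Inj

open Groth.Agent.QCoh Groth.Agent.QCoh.Ab

variable {X : TopCat.{u}} {ι : Type u} {U : ι → Opens X}

/-- Natural 0-cocycles are global sections. -/
theorem exists_ofTop (F : CohTop.Ab X) (hcov : ⨆ i, U i = ⊤) (c : natCochains F.obj U 1)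
    (hd : d c.1 = 0) : ∃ s, ofTop U F.obj s = c := by
  let K := natCx F.obj U
  have hc : (K.sc 0).g.hom (c : K.X 0) = 0 := by
    show (K.d 0 ((ComplexShape.up ℕ).next 0)).hom c = 0
    rw [show (ComplexShape.up ℕ).next 0 = 1 by simp, natCx_d]
    exact Subtype.ext hd
  let x : K.cycles 0 := (K.sc 0).abCyclesIso.inv ⟨(c : K.X 0), hc⟩
  obtain ⟨s, hs⟩ := (topToH0_bijective U F hcov).2 (K.homologyπ 0 x)
  haveI : IsIso (K.homologyπ 0) := CochainComplex.isIso_homologyπ₀ K
  have h1 := congrArg (K.iCycles 0) ((ConcreteCategory.bijective_of_isIso (K.homologyπ 0)).1 hs)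
  refine ⟨s, ?_⟩
  have e1 := ConcreteCategory.congr_hom (K.liftCycles_i (ofTop U F.obj) 1 (by simp) (ofTop_d U _)) s
  exact e1.symm.trans (h1.trans ((K.sc 0).abCyclesIso_inv_apply_iCycles ⟨(c : K.X 0), hc⟩))

/-- A one-cocycle of a sheaf without first cohomology is a coboundary. -/
theorem exists_primitive (F : CohTop.Ab X) (hcov : ⨆ i, U i = ⊤) (h : Subsingleton (CohTop.H F 1))
    (c : Cochain F.obj U 2) (hc : IsNatural c) (hd : d c = 0) :
    ∃ b : Cochain F.obj U 1, IsNatural b ∧ d b = c := by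
  let T : ShortComplex (CohTop.Ab X) :=
    ShortComplex.mk (Injective.ι F) (cokernel.π (Injective.ι F)) (cokernel.condition _)
  have hT : T.ShortExact :=
    { exact := ShortComplex.exact_of_g_is_cokernel _ (cokernelIsCokernel _) }
  have hinj : Injective T.X₂ := Injective.injective_under F
  have hz : (natCx T.X₂.obj U).ExactAt 1 := by
    rw [HomologicalComplex.exactAt_iff_isZero_homology]
    exact @isZero_natCx_homology_of_injective _ _ U T.X₂ hinj 0
  rw [HomologicalComplex.exactAt_iff' _ 0 1 2 (by simp) (by simp), ShortComplex.ab_exact_iff] at hz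
  simp only [HomologicalComplex.sc', HomologicalComplex.shortComplexFunctor'_obj_f,
    HomologicalComplex.shortComplexFunctor'_obj_g, natCx_d] at hz
  obtain ⟨a, ha⟩ := hz ⟨push T.f.hom c, push_natural _ hc⟩
    (Subtype.ext ((d_push T.f.hom c).trans (by rw [hd]; funext σ W; exact map_zero _)))
  have ha' : d a.1 = push T.f.hom c := congrArg Subtype.val ha
  have hga : d (push T.g.hom a.1) = 0 := by
    rw [d_push, ha']
    funext σ W
    exact g_f_zero W.1 _
  obtain ⟨s, hs⟩ := exists_ofTop T.X₃ hcov ⟨push T.g.hom a.1, push_natural _ a.2⟩ hga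
  obtain ⟨y, hy⟩ := (connecting_eq_zero_iff hT 0 ((Sheaf.H.equiv₀ T.X₃ isTerminalTop).symm s)).mp
    (@Subsingleton.elim _ h _ _)
  have ht : T.g.hom.app (op ⊤) (Sheaf.H.equiv₀ T.X₂ isTerminalTop y) = s := by
    have := Sheaf.H.equiv₀_naturality isTerminalTop T.g y
    rw [hy, AddEquiv.apply_symm_apply] at this
    exact this
  let t := ofTop U T.X₂.obj (Sheaf.H.equiv₀ T.X₂ isTerminalTop y)
  have htd : d (t : natCochains T.X₂.obj U 1).1 = 0 := by
    have := ConcreteCategory.congr_hom (ofTop_d U T.X₂.obj) (Sheaf.H.equiv₀ T.X₂ isTerminalTop y)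
    rw [natCx_d] at this
    exact congrArg Subtype.val this
  let a' : natCochains T.X₂.obj U 1 := a
  let t' : natCochains T.X₂.obj U 1 := t
  let a₀ : natCochains T.X₂.obj U 1 := a' - t'
  have hpush : push T.g.hom a₀.1 = 0 := by
    show push T.g.hom (a'.1 - t'.1) = 0
    rw [push_sub]
    refine sub_eq_zero.mpr ?_
    refine (congrArg Subtype.val hs).symm.trans ?_
    funext σ W
    rw [← ht]
    exact congr($(T.g.hom.naturality (homOfLE le_top).op) _).symm
  obtain ⟨b, hb, hbe⟩ := exists_cochain_lift hT a₀.1 a₀.2 hpush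
  refine ⟨b, hb, push_f_injective hT ?_⟩
  rw [← d_push, hbe]
  show d (a'.1 - t'.1) = _
  rw [d_sub, htd, sub_zero, ha']

end Groth.Agent.CechH1Inj
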